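import Cfsg.Agent.Gol.Conj

set_option autoImplicit false
set_option maxRecDepth 100000
set_option linter.all false

namespace Cfsg.Agent.Gol.O11
open Cfsg.Agent.CGT

def g_Ws : List (List ℕ) := [[4, 1, 8, 3, 8, 6], [8, 0, 8, 6, 0], [3, 4, 1], [1, 4, 6, 0], [0, 4, 2], [3, 6, 0], [0, 4, 2], [6, 1, 2, 6, 3], [3, 4, 1], [4, 2, 1], [3, 1, 4], [3, 1, 4, 0], [1, 1], [0], [1, 1], [2], [0], [2], [4], [6], [8]]
theorem g_s0 : slpB 5 m11_ts (chainBase [] m11_ls) g_Ws [[3, 4, 2, 1, 3, 5, 4], [5, 3, 2], [0, 4, 4, 2, 0], [2, 3, 5], [0, 4, 5, 5, 3, 1, 5], [9], [11, 11, 12, 8, 7, 8, 7], [11, 11, 10, 10, 15, 11, 11, 15, 7], [15, 8, 9, 9, 6, 6, 8], [16, 23, 23, 21, 17, 16], [17, 17, 21, 17, 18, 23, 19, 19], [17, 17, 21, 19, 20, 17, 21, 19], [17, 20, 22], [26], [30], [18, 30, 26], [11, 7, 18, 30, 26], [0, 2, 8, 7, 22, 19, 27]] 3 21 = true := by decide +kernel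
theorem g_top {G : Type*} [Group G] {φ : G →* Equiv.Perm ℕ} {γ : ℕ → G}
    (C : Cert φ γ 5 m11_ns m11_ts [0, 2, 4, 6, 8] m11_ls) : gw γ (g_Ws.take 3) = ⊤ := by
  have h0 : SlpTo γ (gw γ (g_Ws.take 3)) g_Ws 3 := fun i hi =>
    ev_mem_gw γ (by interval_cases i <;> decide +kernel)
  rw [eq_top_iff, ← C.gen]
  exact SlpTo.gp_le (SlpTo.step C.M C.base (by decide +kernel) h0 g_s0) (by decide +kernel)

end Cfsg.Agent.Gol.O11
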