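import Cfsg.Agent.Gol.Conj

set_option autoImplicit false
set_option maxRecDepth 100000
set_option linter.all false

namespace Cfsg.Agent.Gol.O11
open Cfsg.Agent.CGT

def cu_l0 : Level := ⟨2, [[0], [2], [4], [6], [8]], [], 0xa66bc, 11⟩
def cu_l1 : Level := ⟨3, [[0], [2], [4], [6]], [], 0xa66b8, 10⟩
def cu_l2 : Level := ⟨10, [[0], [2], [4]], [], 0xa66b0, 9⟩
def cu_l3 : Level := ⟨9, [[0, 4], [1, 4, 2, 1]], [], 0xa62b0, 8⟩
def cu_ls : List Level := [cu_l0, cu_l1, cu_l2, cu_l3]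
def cu_S : Srch := ⟨5, m11_ts, (chainBase [] m11_ls), [8, 4, 3, 8, 1, 6, 1], [8, 4, 3, 8, 1, 6, 1], []⟩
def cu_lk : List ℕ := [3, 4, 11]
def cu_tl : List Level := [cu_l1, cu_l2, cu_l3]
def cu_R0 : ℕ := 0x80024
theorem cu_l0_ok : cu_l0.okT 5 m11_ts [0, 2, 4, 6, 8] [] (.cons [8] (.cons [0] .nil (.cons [1] .nil (.cons [2] .nil (.cons [3] (.cons [0] .nil (.cons [1] .nil (.cons [3] .nil (.cons [8] .nil .nil)))) (.cons [6] .nil .nil))))) .nil) = true := by decide +kernel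
theorem cu_l1_ok : cu_l1.okT 5 m11_ts [0, 2, 4, 6, 8] [2] (.cons [6] (.cons [0] .nil (.cons [1] (.cons [6] .nil .nil) (.cons [2] (.cons [0] .nil (.cons [1] .nil (.cons [2] .nil .nil))) (.cons [3] .nil .nil)))) .nil) = true := by decide +kernel
theorem cu_l2_ok : cu_l2.okT 5 m11_ts [0, 2, 4, 6, 8] [3, 2] (.cons [0] .nil (.cons [1] .nil (.cons [2] (.cons [4] .nil .nil) (.cons [3] (.cons [0] .nil (.cons [1] .nil (.cons [3] .nil .nil))) .nil)))) = true := by decide +kernel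
theorem cu_l3_ok : cu_l3.okT 5 m11_ts [0, 2, 4, 6, 8] [10, 3, 2] (.cons [0] (.cons [0] .nil (.cons [2] .nil (.cons [3] .nil .nil))) (.cons [1] .nil (.cons [2] .nil (.cons [3] .nil .nil)))) = true := by decide +kernel
theorem cu_aux : cu_S.auxB [0, 2, 4, 6, 8] cu_ls [] (0 :: cu_lk) = true := by decide +kernel
theorem cu_cov : Nat.beq (Nat.land cu_l0.O (Srch.cover m11_ns (invW cu_S.u') cu_R0 4)) cu_l0.O = true := by decide +kernel
theorem cu_r0 : cu_S.run (.cons [] (.cons [] (.cons [] (.cons [] (.leaf 2000) .nil) .nil) .nil) (.cons [0, 8] (.cons [6] (.cons [] (.cons [2, 0] (.leaf 1) .nil) .nil) .nil) (.cons [0, 3, 8] .nil .nil))) (⟨cu_l0.b, cu_l0.S, [], cu_R0, 0⟩ :: cu_tl) (0 :: cu_lk) Pd.nil 0 = true := by decide +kernel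
theorem cu_sound {G : Type*} [Group G] {φ : G →* Equiv.Perm ℕ} {γ : ℕ → G}
    (M : Model φ γ 5 m11_ns m11_ts) : ChainSound φ (gp γ [0, 2, 4, 6, 8]) 5 [] cu_ls :=
  ⟨Level.okT_sound M cu_l0_ok,
   Level.okT_sound M cu_l1_ok,
   Level.okT_sound M cu_l2_ok,
   Level.okT_sound M cu_l3_ok, trivial⟩
theorem cu_cent {G : Type*} [Group G] {φ : G →* Equiv.Perm ℕ} {γ : ℕ → G}
    (C : Cert φ γ 5 m11_ns m11_ts [0, 2, 4, 6, 8] m11_ls) : Cent γ cu_S.u cu_S.Cl 4 :=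
  have X := (C.rechain (cu_sound C.M) (by decide +kernel)).exact
  have A := Srch.auxB_sound (S := cu_S) C.M (K := ⊤) le_top rfl cu_aux
  have F := fun {tr : Tr} {R : ℕ} => Srch.found_of_run (S := cu_S) C.M C.base (by decide +kernel) X A (tr := tr) (R := R)
  Cent.of_found (S := cu_S) C.M X rfl (F cu_r0) cu_cov

end Cfsg.Agent.Gol.O11
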