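import Cfsg.Agent.Gol.O11.OutX
import Cfsg.Agent.Gol.O11.OutU
import Cfsg.Agent.Gol.O11.OutG
import Cfsg.Agent.CGT.Out2

set_option autoImplicit false
set_option maxRecDepth 100000
set_option linter.all false

namespace Cfsg.Agent.Gol.O11
open Cfsg.Agent.CGT

def od : OutD := ⟨5, m11_ts, (chainBase [] m11_ls), [4, 1, 8, 3, 8, 6], [8, 0, 8, 6, 0], [3, 4, 1], [8, 0, 8, 6, 0], 11, 3, 1, 2, 4, [1, 2], [], [[0, 5, 0, 5, 0, 5]], [[[4, 1, 8, 3, 8, 6], [8, 0, 8, 6, 0], [3, 4, 1]]]⟩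
theorem od_b : od.basic 7920 2 = true := by decide +kernel
theorem od_c : conjB 5 m11_ts (chainBase [] m11_ls) [6, 0, 6] od.u cu_S.u od.Cl cu_S.Cl = true := by decide +kernel
theorem od_k1 : od.cands 1 ([] :: od.Cl) [[0, 1, 1, 1, 1]] = true := by decide +kernel
theorem od_k2 : od.cands 2 ([] :: od.Cl) [[513, 1, 1, 1, 1]] = true := by decide +kernel
theorem out_card {G : Type*} [Group G] {φ : G →* Equiv.Perm ℕ} {γ : ℕ → G} (C : Cert φ γ 5 m11_ns m11_ts [0, 2, 4, 6, 8] m11_ls)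
    (hN : Nat.card G = 7920) : Nat.card (Cfsg.Out G) = 1 :=
  haveI := C.fin
  OutD.out_one (D := od) C.M C.base hN (by norm_num [od]) od_b (cx_cent C) ((cu_cent C).conj C.M C.base od_c)
    (by
    intro k hk
    simp only [od, List.mem_cons, List.not_mem_nil, or_false] at hk
    rcases hk with rfl | rfl
    exacts [OutD.cands_sound C.M C.base od_b od_k1, OutD.cands_sound C.M C.base od_b od_k2]) (g_top C) rfl
theorem out_eq : Nat.card (Cfsg.Out Cfsg.Spor.M11) = 1 := out_card m11_cert m11_card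

end Cfsg.Agent.Gol.O11
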